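import Cfsg.Agent.Lib.Axial.MajoranaPair

/-!
One axis and two neighbours exchanged by its involution: eigenvectors and the products the fusion rules force.
-/

set_option autoImplicit false

namespace Cfsg.Agent.Lib.Axial.Dihedral

open Cfsg.Axial Cfsg.Agent.Lib.Axial.MajoranaPair

variable {V : Type*} [AddCommGroup V] [Module ℝ V]
variable {mul : V →ₗ[ℝ] V →ₗ[ℝ] V} {B : LinearMap.BilinForm ℝ V}

/-- The product of two neighbours with the mean removed. -/
noncomputable def red (mul : V →ₗ[ℝ] V →ₗ[ℝ] V) (a x : V) : V := mul a x - (1 / 32 : ℝ) • (a + x)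

lemma mul_eq_red (a x : V) : mul a x = red mul a x + (1 / 32 : ℝ) • (a + x) := (sub_add_cancel _ _).symm

lemma anti {μ : V ≃ₗ[ℝ] V} {a : V} (h : IsMajoranaPair mul B μ a) (v : V) :
    mul a (v - μ v) = (1 / 32 : ℝ) • (v - μ v) := by
  obtain ⟨-, -, ⟨⟨-, -, htop, -⟩, -⟩, hfix, hneg⟩ := h
  have hv : v ∈ eigenSum mul a majoranaSpectrum := htop ▸ Submodule.mem_top
  simp only [eigenSum, majoranaSpectrum, iSup_insert, iSup_singleton, Submodule.mem_sup] at hv
  obtain ⟨x1, hx1, _, ⟨x0, hx0, _, ⟨x4, hx4, x32, hx32, rfl⟩, rfl⟩, rfl⟩ := hv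
  have hmem : ∀ c ∈ ({1, 0, 1 / 4} : Set ℝ), eigen mul a c ≤ eigenSum mul a ({1, 0, 1 / 4} : Set ℝ) :=
    fun c hc => le_biSup (fun c => eigen mul a c) hc
  have e1 := hfix _ (hmem 1 (by simp) hx1)
  have e0 := hfix _ (hmem 0 (by simp) hx0)
  have e4 := hfix _ (hmem _ (by simp) hx4)
  have e32 := hneg _ hx32
  simp only [LinearEquiv.coe_coe] at e1 e0 e4 e32
  rw [mem_eigen] at hx32
  have e : x1 + (x0 + (x4 + x32)) - μ (x1 + (x0 + (x4 + x32))) = (2 : ℝ) • x32 := by
    rw [map_add, map_add, map_add, e1, e0, e4, e32]; module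
  rw [e, map_smul, hx32, smul_comm]

/-- A left multiplication by an axis of a neighbour and its reflection differ only in the odd part. -/
lemma red_symm {μ : V ≃ₗ[ℝ] V} {a x y : V} (h : IsMajoranaPair mul B μ a) (hxy : μ x = y) :
    red mul a y = red mul a x := by
  have e := anti h x
  rw [hxy, map_sub] at e
  rw [red, red, ← sub_eq_zero]
  have e' : mul a y = mul a x - (1 / 32 : ℝ) • (x - y) := by rw [← e]; abel
  rw [e']; module

lemma B_red (hV : IsMajoranaAmbient mul B) {a x : V} (hid : mul a a = a) (hn : B a a = 1) :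
    B a (red mul a x) = B a x - (1 + B a x) / 32 := by
  obtain ⟨-, -, -, hass, -⟩ := hV
  simp only [red, map_sub, map_smul, map_add, smul_eq_mul, hn, hass a a x, hid]
  ring

/-- The product of an axis with the reduced product. -/
lemma mul_red {μ : V ≃ₗ[ℝ] V} {a x y : V} (hV : IsMajoranaAmbient mul B) (h : IsMajoranaPair mul B μ a)
    (hn : B a a = 1) (hxy : μ x = y) (hyx : μ y = x) :
    mul a (red mul a x) = (3 / 4 * B a x - 25 / 1024) • a + (7 / 2048 : ℝ) • (x + y) +
      (7 / 32 : ℝ) • red mul a x := by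
  have hid := h.2.2.1.1.2.1
  have hB : B a y = B a x := by
    have hμa : μ a = a := by
      refine h.2.2.2.1 a ?_
      exact le_biSup (fun c => eigen mul a c) (by simp : (1 : ℝ) ∈ ({1, 0, 1 / 4} : Set ℝ))
        (mem_eigen.2 (by rw [one_smul, hid]))
    have := h.2.1 a x
    rwa [hμa, hxy] at this
  have hfix : μ (x + y) = x + y := by rw [map_add, hxy, hyx, add_comm]
  have h2 := ad_twice hV h hn hfix
  have hs := red_symm h hxy
  simp only [map_add, hB, mul_eq_red a x, mul_eq_red a y, hs, map_smul, hid] at h2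
  have key : (2 : ℝ) • mul a (red mul a x) = (2 : ℝ) • ((3 / 4 * B a x - 25 / 1024) • a +
      (7 / 2048 : ℝ) • (x + y) + (7 / 32 : ℝ) • red mul a x) := by
    rw [← sub_eq_zero]
    rw [← sub_eq_zero] at h2
    rw [← h2]
    module
  exact smul_right_injective V (by norm_num : (2 : ℝ) ≠ 0) key

lemma fuse00 {μ : V ≃ₗ[ℝ] V} {a u : V} (h : IsMajoranaPair mul B μ a) (hu : mul a u = 0) :
    mul a (mul u u) = 0 := by
  have := h.2.2.1.1.2.2.2 0 (by simp [majoranaSpectrum]) 0 (by simp [majoranaSpectrum]) u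
    (mem_eigen.2 (by simpa using hu)) u (mem_eigen.2 (by simpa using hu))
  rw [show monsterLaw (1 / 4 : ℝ) (1 / 32) 0 0 = {0} from by norm_num [monsterLaw],
    eigenSum, iSup_singleton, mem_eigen, zero_smul] at this
  exact this

lemma fuse04 {μ : V ≃ₗ[ℝ] V} {a u w : V} (h : IsMajoranaPair mul B μ a) (hu : mul a u = 0)
    (hw : mul a w = (1 / 4 : ℝ) • w) : mul a (mul u w) = (1 / 4 : ℝ) • mul u w := by
  have := h.2.2.1.1.2.2.2 0 (by simp [majoranaSpectrum]) (1 / 4) (by simp [majoranaSpectrum]) u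
    (mem_eigen.2 (by simpa using hu)) w (mem_eigen.2 hw)
  rw [show monsterLaw (1 / 4 : ℝ) (1 / 32) 0 (1 / 4) = {1 / 4} from by norm_num [monsterLaw],
    eigenSum, iSup_singleton, mem_eigen] at this
  exact this

lemma fuse44 {μ : V ≃ₗ[ℝ] V} {a w : V} (hV : IsMajoranaAmbient mul B) (h : IsMajoranaPair mul B μ a)
    (hn : B a a = 1) (hw : mul a w = (1 / 4 : ℝ) • w) : mul a (mul w w) = (1 / 4 * B w w) • a := by
  have := h.2.2.1.1.2.2.2 (1 / 4) (by simp [majoranaSpectrum]) (1 / 4) (by simp [majoranaSpectrum]) w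
    (mem_eigen.2 hw) w (mem_eigen.2 hw)
  rw [show monsterLaw (1 / 4 : ℝ) (1 / 32) (1 / 4) (1 / 4) = {1, 0} from by norm_num [monsterLaw],
    eigenSum, iSup_insert, iSup_singleton, Submodule.mem_sup] at this
  obtain ⟨p', hp', q, hq, e⟩ := this
  rw [h.2.2.1.2, Submodule.mem_span_singleton] at hp'
  obtain ⟨p, rfl⟩ := hp'
  have hq0 : mul a q = 0 := by simpa using mem_eigen.1 hq
  have hid := h.2.2.1.1.2.1
  have hq' : B a q = 0 := orth hV hid (c := 0) (by norm_num) (by simpa using hq0)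
  have hp : p = 1 / 4 * B w w := by
    have h' := hV.2.2.2.1 a w w
    rw [← e, map_add, map_smul, hn, hq', hw, map_smul] at h'
    simpa [smul_eq_mul] using h'
  rw [← e, map_add, map_smul, hid, hq0, add_zero, hp]

end Cfsg.Agent.Lib.Axial.Dihedral
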