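import Cfsg.Prelude.Def_AxialAlgebras
import Mathlib

/-!
Two Majorana axes fixed by each other's involutions: types 2A and 2B.
-/

namespace Cfsg.Agent.Lib.Axial.MajoranaPair

open Cfsg.Axial

variable {V : Type*} [AddCommGroup V] [Module ℝ V]
variable {mul : V →ₗ[ℝ] V →ₗ[ℝ] V} {B : LinearMap.BilinForm ℝ V}

lemma mem_eigen {a v : V} {c : ℝ} : v ∈ eigen mul a c ↔ mul a v = c • v := by
  unfold eigen
  exact Module.End.mem_eigenspace_iff

lemma eigen_map (φ : V ≃ₗ[ℝ] V) (hφ : ∀ u v : V, φ (mul u v) = mul (φ u) (φ v)) (a : V) (c : ℝ) :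
    eigen mul (φ a) c = (eigen mul a c).map (φ : V →ₗ[ℝ] V) := by
  ext v
  rw [Submodule.mem_map, mem_eigen]
  constructor
  · intro hv
    refine ⟨φ.symm v, ?_, by simp⟩
    rw [mem_eigen]
    apply φ.injective
    rw [hφ, φ.apply_symm_apply, map_smul, φ.apply_symm_apply, hv]
  · rintro ⟨x, hx, rfl⟩
    rw [mem_eigen] at hx
    simp only [LinearEquiv.coe_coe]
    rw [← hφ, hx, map_smul]

lemma eigenSum_map (φ : V ≃ₗ[ℝ] V) (hφ : ∀ u v : V, φ (mul u v) = mul (φ u) (φ v)) (a : V)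
    (S : Set ℝ) :
    eigenSum mul (φ a) S = (eigenSum mul a S).map (φ : V →ₗ[ℝ] V) := by
  unfold eigenSum
  rw [Submodule.map_iSup]
  refine iSup_congr fun c => ?_
  rw [Submodule.map_iSup]
  exact iSup_congr fun _ => eigen_map φ hφ a c

/-- Transport of a Majorana pair along an automorphism that commutes with the involution. -/
lemma pair_map {μ φ : V ≃ₗ[ℝ] V} {a : V} (hφ : ∀ u v : V, φ (mul u v) = mul (φ u) (φ v))
    (h : IsMajoranaPair mul B μ a) (hc : ∀ v, μ (φ v) = φ (μ v)) :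
    IsMajoranaPair mul B μ (φ a) := by
  obtain ⟨hm, hB, ⟨⟨hne, hid, htop, hfus⟩, h1⟩, hfix, hneg⟩ := h
  refine ⟨hm, hB, ⟨⟨?_, ?_, ?_, ?_⟩, ?_⟩, ?_, ?_⟩
  · simpa using hne
  · rw [← hφ, hid]
  · rw [eigenSum_map φ hφ, htop, Submodule.map_top, LinearEquiv.range]
  · intro c hc' d hd u hu v hv
    rw [eigen_map φ hφ] at hu hv
    obtain ⟨x, hx, rfl⟩ := hu
    obtain ⟨y, hy, rfl⟩ := hv
    rw [eigenSum_map φ hφ]
    exact ⟨mul x y, hfus c hc' d hd x hx y hy, hφ x y⟩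
  · rw [eigen_map φ hφ, h1, Submodule.map_span, Set.image_singleton, LinearEquiv.coe_coe]
  · intro v hv
    rw [eigenSum_map φ hφ] at hv
    obtain ⟨x, hx, rfl⟩ := hv
    have := hfix x hx
    simp only [LinearEquiv.coe_coe] at this ⊢
    rw [hc, this]
  · intro v hv
    rw [eigen_map φ hφ] at hv
    obtain ⟨x, hx, rfl⟩ := hv
    have := hneg x hx
    simp only [LinearEquiv.coe_coe] at this ⊢
    rw [hc, this, map_neg]

/-- An involution fixing `b`: no `1/32`-component. -/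
lemma decomp {μ : V ≃ₗ[ℝ] V} {a : V} (h : IsMajoranaPair mul B μ a) {b : V} (hb : μ b = b) :
    ∃ (t : ℝ) (u w : V), mul a u = 0 ∧ mul a w = (1 / 4 : ℝ) • w ∧ b = t • a + u + w := by
  obtain ⟨-, -, ⟨⟨-, -, htop, -⟩, h1⟩, hfix, hneg⟩ := h
  have hbm : b ∈ eigenSum mul a majoranaSpectrum := htop ▸ Submodule.mem_top
  simp only [eigenSum, majoranaSpectrum, iSup_insert, iSup_singleton, Submodule.mem_sup] at hbm
  obtain ⟨x1, hx1, _, ⟨x0, hx0, _, ⟨x4, hx4, x32, hx32, rfl⟩, rfl⟩, rfl⟩ := hbm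
  have hs1 : x1 ∈ eigenSum mul a ({1, 0, 1 / 4} : Set ℝ) :=
    (le_biSup (fun c => eigen mul a c) (by simp : (1 : ℝ) ∈ ({1, 0, 1 / 4} : Set ℝ))) hx1
  have hs0 : x0 ∈ eigenSum mul a ({1, 0, 1 / 4} : Set ℝ) :=
    (le_biSup (fun c => eigen mul a c) (by simp : (0 : ℝ) ∈ ({1, 0, 1 / 4} : Set ℝ))) hx0
  have hs4 : x4 ∈ eigenSum mul a ({1, 0, 1 / 4} : Set ℝ) :=
    (le_biSup (fun c => eigen mul a c) (by simp : (1 / 4 : ℝ) ∈ ({1, 0, 1 / 4} : Set ℝ))) hx4
  have e1 := hfix _ hs1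
  have e0 := hfix _ hs0
  have e4 := hfix _ hs4
  have e32 := hneg _ hx32
  simp only [LinearEquiv.coe_coe] at e1 e0 e4 e32
  rw [map_add, map_add, map_add, e1, e0, e4, e32] at hb
  have h2 : x32 = 0 := by
    have : (2 : ℝ) • x32 = 0 := by
      have h' := sub_eq_zero.2 hb.symm
      rw [two_smul]
      rw [← h']
      abel
    exact (smul_eq_zero.1 this).resolve_left (by norm_num)
  rw [h1, Submodule.mem_span_singleton] at hx1
  obtain ⟨t, rfl⟩ := hx1
  rw [mem_eigen] at hx0 hx4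
  refine ⟨t, x0, x4, by simpa using hx0, hx4, ?_⟩
  rw [h2]; abel

lemma indep {a : V} (hid : mul a a = a) (hne : a ≠ 0) {x : ℝ} {y z : V} (hy : mul a y = 0)
    (hz : mul a z = (1 / 4 : ℝ) • z) (h : x • a + y + z = 0) : x = 0 ∧ y = 0 ∧ z = 0 := by
  have h1 := congrArg (mul a) h
  simp only [map_add, map_smul, map_zero, hid, hy, hz, add_zero] at h1
  have h2 := congrArg (mul a) h1
  simp only [map_add, map_smul, map_zero, hid, hz] at h2
  have h3 : (3 / 16 : ℝ) • z = 0 := by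
    have : (x • a + (1 / 4 : ℝ) • z) - (x • a + (1 / 4 : ℝ) • ((1 / 4 : ℝ) • z)) = 0 := by
      rw [h1, h2, sub_zero]
    rw [← this]; module
  have hz0 : z = 0 := (smul_eq_zero.1 h3).resolve_left (by norm_num)
  rw [hz0, smul_zero, add_zero] at h1
  have hx : x = 0 := (smul_eq_zero.1 h1).resolve_right hne
  refine ⟨hx, ?_, hz0⟩
  rwa [hx, hz0, zero_smul, zero_add, add_zero] at h

lemma orth {a : V} (hV : IsMajoranaAmbient mul B) (hid : mul a a = a) {y : V} {c : ℝ}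
    (hc : c ≠ 1) (hy : mul a y = c • y) : B a y = 0 := by
  obtain ⟨-, -, -, hass, -⟩ := hV
  have h := hass a a y
  rw [hy, map_smul, hid, smul_eq_mul] at h
  have : (c - 1) * B a y = 0 := by linarith
  rcases mul_eq_zero.1 this with h' | h'
  · exact absurd (by linarith) hc
  · exact h'

/-- The data of `b` seen from the axis `a`. -/
lemma ad_twice {μ : V ≃ₗ[ℝ] V} {a : V} (hV : IsMajoranaAmbient mul B)
    (h : IsMajoranaPair mul B μ a) (hn : B a a = 1) {b : V} (hb : μ b = b) :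
    mul a (mul a b) = (3 / 4 * B a b) • a + (1 / 4 : ℝ) • mul a b := by
  obtain ⟨t, u, w, hu, hw, rfl⟩ := decomp h hb
  have hid := h.2.2.1.1.2.1
  have h0 : B a u = 0 := orth hV hid (c := 0) (by norm_num) (by simpa using hu)
  have h4 : B a w = 0 := orth hV hid (c := 1 / 4) (by norm_num) hw
  simp only [map_add, map_smul, hid, hu, hw, hn, h0, h4, smul_eq_mul, add_zero, mul_one]
  module

/-- Two distinct axes fixed by each other's involutions form a pair of type 2A or 2B. -/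
theorem twoA_or_twoB (hV : IsMajoranaAmbient mul B) {μ₀ μ₁ : V ≃ₗ[ℝ] V} {a₀ a₁ : V}
    (h₀ : IsMajoranaPair mul B μ₀ a₀) (h₁ : IsMajoranaPair mul B μ₁ a₁)
    (hn₀ : B a₀ a₀ = 1) (hn₁ : B a₁ a₁ = 1) (hf₀ : μ₀ a₁ = a₁) (hf₁ : μ₁ a₀ = a₀)
    (hne : a₀ ≠ a₁) :
    (B a₀ a₁ = 0 ∧ mul a₀ a₁ = 0) ∨
      (B a₀ a₁ = 1 / 8 ∧
        mul (a₀ + a₁ - (8 : ℝ) • mul a₀ a₁) (a₀ + a₁ - (8 : ℝ) • mul a₀ a₁) =
          a₀ + a₁ - (8 : ℝ) • mul a₀ a₁ ∧
        mul a₀ (a₀ + a₁ - (8 : ℝ) • mul a₀ a₁) =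
          (1 / 8 : ℝ) • (a₀ + (a₀ + a₁ - (8 : ℝ) • mul a₀ a₁) - a₁) ∧
        mul a₁ (a₀ + a₁ - (8 : ℝ) • mul a₀ a₁) =
          (1 / 8 : ℝ) • (a₁ + (a₀ + a₁ - (8 : ℝ) • mul a₀ a₁) - a₀)) := by
  have hV' := hV
  obtain ⟨hcomm, hsym, hpos, hass, -⟩ := hV
  have hne0 : a₀ ≠ 0 := h₀.2.2.1.1.1
  have hid : mul a₀ a₀ = a₀ := h₀.2.2.1.1.2.1
  have hfus := h₀.2.2.1.1.2.2.2
  obtain ⟨s, u, w, hu, hw, hdec⟩ := decomp h₀ hf₀
  have hu' : mul a₀ u = (0 : ℝ) • u := by simpa using hu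
  have hBu : B a₀ u = 0 := orth hV' hid (by norm_num) hu'
  have hBw : B a₀ w = 0 := orth hV' hid (by norm_num) hw
  have hs : B a₀ a₁ = s := by
    rw [hdec]; simp only [map_add, map_smul, hn₀, hBu, hBw, smul_eq_mul]; ring
  -- products from the fusion law
  have huu : mul a₀ (mul u u) = 0 := by
    have := hfus 0 (by simp [majoranaSpectrum]) 0 (by simp [majoranaSpectrum]) u
      (mem_eigen.2 hu') u (mem_eigen.2 hu')
    rw [show monsterLaw (1 / 4 : ℝ) (1 / 32) 0 0 = {0} from by norm_num [monsterLaw],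
      eigenSum, iSup_singleton, mem_eigen, zero_smul] at this
    exact this
  have huw : mul a₀ (mul u w) = (1 / 4 : ℝ) • mul u w := by
    have := hfus 0 (by simp [majoranaSpectrum]) (1 / 4) (by simp [majoranaSpectrum]) u
      (mem_eigen.2 hu') w (mem_eigen.2 hw)
    rw [show monsterLaw (1 / 4 : ℝ) (1 / 32) 0 (1 / 4) = {1 / 4} from by norm_num [monsterLaw],
      eigenSum, iSup_singleton, mem_eigen] at this
    exact this
  obtain ⟨p, q, hq, hww⟩ : ∃ (p : ℝ) (q : V), mul a₀ q = 0 ∧ mul w w = p • a₀ + q := by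
    have := hfus (1 / 4) (by simp [majoranaSpectrum]) (1 / 4) (by simp [majoranaSpectrum]) w
      (mem_eigen.2 hw) w (mem_eigen.2 hw)
    rw [show monsterLaw (1 / 4 : ℝ) (1 / 32) (1 / 4) (1 / 4) = {1, 0} from by
      norm_num [monsterLaw], eigenSum, iSup_insert, iSup_singleton, Submodule.mem_sup] at this
    obtain ⟨y, hy, q, hq, e⟩ := this
    rw [h₀.2.2.1.2, Submodule.mem_span_singleton] at hy
    obtain ⟨p, rfl⟩ := hy
    exact ⟨p, q, by simpa using mem_eigen.1 hq, e.symm⟩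
  have hq' : B a₀ q = 0 := orth hV' hid (c := 0) (by norm_num) (by simpa using hq)
  have hp : p = 1 / 4 * B w w := by
    have h := hass a₀ w w
    rw [hww, map_add, map_smul, hn₀, hq', hw, map_smul] at h
    simpa [smul_eq_mul] using h
  have hsq := h₁.2.2.1.1.2.1
  -- idempotency of `a₁`
  have hsq' : (s ^ 2 + p - s) • a₀ + (mul u u + q - u) +
      ((s / 2 - 1) • w + (2 : ℝ) • mul u w) = 0 := by
    rw [hdec] at hsq
    simp only [map_add, map_smul, LinearMap.add_apply, LinearMap.smul_apply] at hsq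
    rw [hcomm u a₀, hcomm w a₀, hcomm w u, hid, hu, hw, hww] at hsq
    rw [← sub_eq_zero] at hsq
    rw [← hsq]
    module
  obtain ⟨eP, eQ, eW⟩ := indep hid hne0
    (by simp [map_add, map_sub, huu, hq, hu])
    (by simp only [map_add, map_smul, hw, huw]; module) hsq'
  have huw2 : mul u w = ((2 - s) / 4) • w := by
    have : mul u w - ((2 - s) / 4) • w = (1 / 2 : ℝ) • ((s / 2 - 1) • w + (2 : ℝ) • mul u w) := by
      module
    rw [eW, smul_zero, sub_eq_zero] at this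
    exact this
  have h01 : mul a₀ a₁ = s • a₀ + (1 / 4 : ℝ) • w := by
    rw [hdec]; simp only [map_add, map_smul, hid, hu, hw, add_zero]
  by_cases hw0 : w = 0
  · have hp0 : p = 0 := by rw [hp, hw0]; simp
    rw [hp0] at eP
    rcases mul_eq_zero.1 (show s * (s - 1) = 0 by linarith) with h | h
    · left
      refine ⟨hs.trans h, ?_⟩
      rw [h01, h, hw0]; simp
    · exfalso
      have hs1 : s = 1 := by linarith
      refine lt_irrefl (0 : ℝ) ((hpos (a₀ - a₁) (sub_ne_zero.2 hne)).trans_le (le_of_eq ?_))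
      simp only [map_sub, LinearMap.sub_apply, hsym a₁ a₀, hn₀, hn₁, hs, hs1]
      norm_num
  · have hf := ad_twice hV' h₁ hn₁ hf₁
    rw [hsym a₁ a₀, hs, hcomm a₁ a₀] at hf
    have h1w : mul a₁ w = (s / 4) • w + mul u w + (p • a₀ + q) := by
      rw [hdec]
      simp only [map_add, map_smul, LinearMap.add_apply, LinearMap.smul_apply, hw, hww]
      module
    have key : (p - 3 * s ^ 2 - (1 - 4 * s) * s) • a₀ + (q - (3 * s) • u) +
        ((1 / 4 - 2 * s) • w) = 0 := by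
      have e : mul a₁ (mul a₀ a₁) = s • mul a₀ a₁ + (1 / 4 : ℝ) • mul a₁ w := by
        conv_lhs => rw [h01]
        simp only [map_add, map_smul, hcomm a₁ a₀]
      rw [e, h1w, huw2, h01] at hf
      rw [hdec] at hf
      have := congrArg (fun v : V => (4 : ℝ) • v) (sub_eq_zero.2 hf)
      simp only [smul_zero] at this
      rw [← this]
      module
    obtain ⟨kP, kQ, kW⟩ := indep hid hne0 (by simp [map_sub, hq, hu])
      (by simp only [map_smul, hw]; module) key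
    have hs8 : s = 1 / 8 := by
      have := (smul_eq_zero.1 kW).resolve_right hw0
      linarith
    have hq3 : q = (3 / 8 : ℝ) • u := by
      rw [sub_eq_zero] at kQ; rw [kQ, hs8]; norm_num
    have huu2 : mul u u = (5 / 8 : ℝ) • u := by
      rw [hq3] at eQ
      rw [← sub_eq_zero, ← eQ]; module
    have hp7 : p = 7 / 64 := by subst hs8; linarith
    have ha₂ : a₀ + a₁ - (8 : ℝ) • mul a₀ a₁ = (1 / 8 : ℝ) • a₀ + u - w := by
      rw [h01, hdec, hs8]; module
    right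
    refine ⟨hs.trans hs8, ?_, ?_, ?_⟩
    · rw [ha₂]
      simp only [map_add, map_sub, map_smul, LinearMap.add_apply, LinearMap.sub_apply,
        LinearMap.smul_apply, hcomm u a₀, hcomm w a₀, hcomm w u, hid, hu, hw, hww, huu2, huw2,
        hp7, hq3, hs8]
      module
    · rw [ha₂, hdec, hs8]
      simp only [map_add, map_sub, map_smul, hid, hu, hw]
      module
    · rw [ha₂, hdec, hs8]
      simp only [map_add, map_sub, map_smul, LinearMap.add_apply,
        LinearMap.smul_apply, hcomm u a₀, hcomm w a₀, hcomm w u, hid, hu, hw, hww, huu2, huw2,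
        hp7, hq3, hs8]
      module

end Cfsg.Agent.Lib.Axial.MajoranaPair
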