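import Cfsg.Agent.Lib.Axial.Dihedral

/-!
The orbit of axes of two Majorana involutions: the linear relation between six consecutive axes and the two
polynomial equations for the inner products.
-/

set_option autoImplicit false
set_option maxHeartbeats 2000000

namespace Cfsg.Agent.Lib.Axial.Sakuma

open Cfsg.Axial Cfsg.Agent.Lib.Axial.MajoranaPair Cfsg.Agent.Lib.Axial.Dihedral

variable {V : Type*} [AddCommGroup V] [Module ℝ V]
variable {mul : V →ₗ[ℝ] V →ₗ[ℝ] V} {B : LinearMap.BilinForm ℝ V}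

/-- A two-sided sequence of axes, each involution reflecting the sequence about its own index. -/
structure Orb (mul : V →ₗ[ℝ] V →ₗ[ℝ] V) (B : LinearMap.BilinForm ℝ V) where
  amb : IsMajoranaAmbient mul B
  a : ℤ → V
  μ : ℤ → (V ≃ₗ[ℝ] V)
  pair : ∀ i, IsMajoranaPair mul B (μ i) (a i)
  norm : ∀ i, B (a i) (a i) = 1
  refl : ∀ i j, μ i (a j) = a (2 * i - j)

namespace Orb

variable (A : Orb mul B)
include A

/-- Shifted sequence. -/
def shift (k : ℤ) : Orb mul B where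
  amb := A.amb
  a i := A.a (i + k)
  μ i := A.μ (i + k)
  pair i := A.pair (i + k)
  norm i := A.norm (i + k)
  refl i j := by rw [A.refl]; congr 1; ring

lemma shift_a (k i : ℤ) : (A.shift k).a i = A.a (i + k) := rfl

lemma comm (u v : V) : mul u v = mul v u := A.amb.1 u v

lemma bsymm (u v : V) : B u v = B v u := A.amb.2.1 u v

lemma ass (u v w : V) : B u (mul v w) = B (mul u v) w := A.amb.2.2.2.1 u v w

lemma idem (i : ℤ) : mul (A.a i) (A.a i) = A.a i := (A.pair i).2.2.1.1.2.1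

lemma mirror (k i j : ℤ) : B (A.a (2 * k - i)) (A.a (2 * k - j)) = B (A.a i) (A.a j) := by
  rw [← A.refl, ← A.refl]; exact (A.pair k).2.1 _ _

lemma transl (k i j : ℤ) : B (A.a (i + 2 * k)) (A.a (j + 2 * k)) = B (A.a i) (A.a j) := by
  rw [← A.mirror 0 i j, ← A.mirror k (2 * 0 - i) (2 * 0 - j)]
  congr 2 <;> ring

/-- `B(a i, a (i+d))` depends only on the parity of `i`, and not even on that when `d` is odd. -/
lemma dist_odd (i m : ℤ) : B (A.a i) (A.a (i + (2 * m + 1))) = B (A.a 0) (A.a (2 * m + 1)) := by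
  rcases Int.even_or_odd i with ⟨k, rfl⟩ | ⟨k, rfl⟩
  · rw [← A.transl k 0 (2 * m + 1)]; congr 2 <;> ring
  · rw [A.bsymm, ← A.mirror (k + m + 1) (2 * k + 1 + (2 * m + 1)) (2 * k + 1), ← A.transl 0 0 (2 * m + 1)]
    congr 2 <;> ring

lemma dist_even (k d : ℤ) : B (A.a (2 * k)) (A.a (2 * k + d)) = B (A.a 0) (A.a d) := by
  rw [← A.transl k 0 d]; congr 2 <;> ring

lemma dist_neg (d : ℤ) : B (A.a 0) (A.a (-d)) = B (A.a 0) (A.a d) := by
  rw [← A.mirror 0 0 d]; congr 2 <;> ring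

/-- Inner products of neighbours. -/
def L : ℝ := B (A.a 0) (A.a 1)
/-- Inner product at distance two from an even index. -/
def E : ℝ := B (A.a 0) (A.a 2)
/-- Inner product at distance two from an odd index. -/
def O : ℝ := B (A.a 1) (A.a (-1))

noncomputable def s : V := red mul (A.a 0) (A.a 1)
noncomputable def se : V := red mul (A.a 0) (A.a 2)
noncomputable def so : V := red mul (A.a 1) (A.a (-1))

lemma red_comm (x y : V) : red mul x y = red mul y x := by rw [red, red, A.comm, add_comm x y]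

lemma red_refl (i j : ℤ) : red mul (A.a i) (A.a (2 * i - j)) = red mul (A.a i) (A.a j) :=
  red_symm (A.pair i) (A.refl i j)

lemma shift_L (k : ℤ) : (A.shift k).L = A.L := by
  show B (A.a (0 + k)) (A.a (1 + k)) = B (A.a 0) (A.a 1)
  rw [zero_add, add_comm 1 k]; exact A.dist_odd k 0

lemma shift_E_one : (A.shift 1).E = A.O := by
  show B (A.a (0 + 1)) (A.a (2 + 1)) = B (A.a 1) (A.a (-1))
  rw [← A.mirror 1 1 (-1)]; norm_num

lemma shift_O_one : (A.shift 1).O = A.E := by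
  show B (A.a (1 + 1)) (A.a (-1 + 1)) = B (A.a 0) (A.a 2)
  rw [A.bsymm]; norm_num

lemma shift_s_one : (A.shift 1).s = A.s := by
  show red mul (A.a (0 + 1)) (A.a (1 + 1)) = red mul (A.a 0) (A.a 1)
  rw [A.red_comm (A.a 0), ← A.red_refl 1 0]; norm_num

lemma shift_se_one : (A.shift 1).se = A.so := by
  show red mul (A.a (0 + 1)) (A.a (2 + 1)) = red mul (A.a 1) (A.a (-1))
  rw [← A.red_refl 1 (-1)]; norm_num

lemma shift_so_one : (A.shift 1).so = A.se := by
  show red mul (A.a (1 + 1)) (A.a (-1 + 1)) = red mul (A.a 0) (A.a 2)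
  rw [A.red_comm]; norm_num

lemma mul01 : mul (A.a 0) (A.a 1) = A.s + (1 / 32 : ℝ) • (A.a 0 + A.a 1) := mul_eq_red _ _

lemma mul0m1 : mul (A.a 0) (A.a (-1)) = A.s + (1 / 32 : ℝ) • (A.a 0 + A.a (-1)) := by
  rw [mul_eq_red, ← A.red_refl 0 (-1)]; norm_num; rfl

lemma mul02 : mul (A.a 0) (A.a 2) = A.se + (1 / 32 : ℝ) • (A.a 0 + A.a 2) := mul_eq_red _ _

lemma mul0m2 : mul (A.a 0) (A.a (-2)) = A.se + (1 / 32 : ℝ) • (A.a 0 + A.a (-2)) := by
  rw [mul_eq_red, ← A.red_refl 0 (-2)]; norm_num; rfl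

lemma mul1m1 : mul (A.a 1) (A.a (-1)) = A.so + (1 / 32 : ℝ) • (A.a 1 + A.a (-1)) := mul_eq_red _ _

lemma mul0s : mul (A.a 0) A.s = (3 / 4 * A.L - 25 / 1024) • A.a 0 + (7 / 2048 : ℝ) • (A.a 1 + A.a (-1)) +
    (7 / 32 : ℝ) • A.s :=
  mul_red A.amb (A.pair 0) (A.norm 0) (by rw [A.refl]; norm_num) (by rw [A.refl]; norm_num)

lemma mul0se : mul (A.a 0) A.se = (3 / 4 * A.E - 25 / 1024) • A.a 0 + (7 / 2048 : ℝ) • (A.a 2 + A.a (-2)) +
    (7 / 32 : ℝ) • A.se :=
  mul_red A.amb (A.pair 0) (A.norm 0) (by rw [A.refl]; norm_num) (by rw [A.refl]; norm_num)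

lemma mul1s : mul (A.a 1) A.s = (3 / 4 * A.L - 25 / 1024) • A.a 1 + (7 / 2048 : ℝ) • (A.a 2 + A.a 0) +
    (7 / 32 : ℝ) • A.s := by
  have h := (A.shift 1).mul0s
  rw [shift_s_one, shift_L] at h
  simp only [shift_a] at h
  norm_num at h ⊢
  exact h

lemma mulm1s : mul (A.a (-1)) A.s = (3 / 4 * A.L - 25 / 1024) • A.a (-1) + (7 / 2048 : ℝ) • (A.a 0 + A.a (-2)) +
    (7 / 32 : ℝ) • A.s := by
  have h := mul_red A.amb (A.pair (-1)) (A.norm (-1)) (x := A.a 0) (y := A.a (-2))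
    (by rw [A.refl]; norm_num) (by rw [A.refl]; norm_num)
  have e : red mul (A.a (-1)) (A.a 0) = A.s := by
    rw [A.red_comm, ← A.red_refl 0 (-1)]; norm_num; rfl
  have e' : B (A.a (-1)) (A.a 0) = A.L := A.dist_odd (-1) 0
  rwa [e, e'] at h

lemma B_0s : B (A.a 0) A.s = A.L - (1 + A.L) / 32 := B_red A.amb (A.idem 0) (A.norm 0)

lemma B_1s : B (A.a 1) A.s = A.L - (1 + A.L) / 32 := by
  have h := (A.shift 1).B_0s
  rwa [shift_s_one, shift_L, shift_a, zero_add] at h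

lemma B_m1s : B (A.a (-1)) A.s = A.L - (1 + A.L) / 32 := by
  have e : red mul (A.a (-1)) (A.a 0) = A.s := by
    rw [A.red_comm, ← A.red_refl 0 (-1)]; norm_num; rfl
  have e' : B (A.a (-1)) (A.a 0) = A.L := A.dist_odd (-1) 0
  have h := B_red (x := A.a 0) A.amb (A.idem (-1)) (A.norm (-1))
  rwa [e, e'] at h

lemma B_0m1 : B (A.a 0) (A.a (-1)) = A.L := A.dist_neg 1

/-- The quarter-component of the neighbours seen from the axis. -/
noncomputable def u4 : V :=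
  (4 : ℝ) • A.s + (1 / 8 - 4 * A.L) • A.a 0 + (1 / 16 : ℝ) • (A.a 1 + A.a (-1))

/-- The zero-component. -/
noncomputable def u0 : V := (1 / 2 : ℝ) • (A.a 1 + A.a (-1)) - A.L • A.a 0 - A.u4

lemma mul0u4 : mul (A.a 0) A.u4 = (1 / 4 : ℝ) • A.u4 := by
  simp only [u4, map_add, map_smul, A.mul0s, A.idem, A.mul01, A.mul0m1]
  module

lemma mul0u0 : mul (A.a 0) A.u0 = 0 := by
  simp only [u0, map_sub, A.mul0u4]
  simp only [u4, map_add, map_smul, A.idem, A.mul01, A.mul0m1]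
  module

/-- The squared length of the quarter-component. -/
lemma B_u4 : B A.u4 A.u4 = -1 / 16 + 4 * A.L - 4 * A.L ^ 2 + A.O / 16 := by
  have hid := A.idem 0
  have h04 : B A.u0 A.u4 = 0 := by
    have h := A.ass A.u4 (A.a 0) A.u0
    rw [A.comm A.u4 (A.a 0), A.mul0u0, A.mul0u4, map_zero, map_smul, LinearMap.smul_apply, smul_eq_mul] at h
    rw [A.bsymm]; linarith
  have e : B A.u4 A.u4 = B ((1 / 2 : ℝ) • (A.a 1 + A.a (-1)) - A.L • A.a 0) A.u4 := by
    rw [show (1 / 2 : ℝ) • (A.a 1 + A.a (-1)) - A.L • A.a 0 = A.u0 + A.u4 by rw [u0]; abel, map_add,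
      LinearMap.add_apply, h04, zero_add]
  rw [e]
  simp only [u4, map_add, map_sub, map_smul, LinearMap.add_apply, LinearMap.sub_apply, LinearMap.smul_apply,
    smul_eq_mul, A.B_0s, A.B_1s, A.B_m1s, A.norm, A.bsymm (A.a 1) (A.a 0), A.bsymm (A.a (-1)) (A.a 0),
    A.bsymm (A.a (-1)) (A.a 1), A.B_0m1, L, O]
  ring

/-- The resurrection. -/
lemma mul0so : mul (A.a 0) A.so =
    (-19 / 3072 + A.L / 6) • (A.a 1 + A.a (-1)) + (7 / 6144 : ℝ) • (A.a 2 + A.a (-2)) +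
    (-127 / 3072 + 5 / 3 * A.L - 32 / 3 * A.L ^ 2 - A.O / 24) • A.a 0 +
    (-19 / 48 + 32 / 3 * A.L) • A.s + (7 / 96 : ℝ) • A.se := by
  have h00 := fuse00 (A.pair 0) A.mul0u0
  have h44 := fuse44 A.amb (A.pair 0) (A.norm 0) A.mul0u4
  rw [A.B_u4] at h44
  simp only [u0, u4, map_add, map_sub, map_smul, LinearMap.add_apply, LinearMap.sub_apply, LinearMap.smul_apply,
    A.idem, A.comm (A.a 1) (A.a 0), A.comm (A.a (-1)) (A.a 0), A.comm (A.a (-1)) (A.a 1), A.comm A.s (A.a 0),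
    A.comm A.s (A.a 1), A.comm A.s (A.a (-1)), A.mul01, A.mul0m1, A.mul02, A.mul0m2, A.mul1m1, A.mul0s, A.mul1s,
    A.mulm1s] at h00 h44
  linear_combination (norm := module) (8 / 3 : ℝ) • h00 - (8 / 3 : ℝ) • h44

/-- The square of the reduced product. -/
lemma mulss : mul A.s A.s =
    (-245 / 196608 + 49 / 768 * A.L) • (A.a 1 + A.a (-1)) + (49 / 196608 : ℝ) • (A.a 2 + A.a (-2)) +
    (-7 / 98304 - 7 / 384 * A.L + 7 / 6 * A.L ^ 2 + 7 / 1536 * A.O) • A.a 0 +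
    (-13 / 1536 - 5 / 12 * A.L) • A.s + (-7 / 1536 : ℝ) • A.se + (7 / 2048 : ℝ) • A.so := by
  have h04 := fuse04 (A.pair 0) A.mul0u0 A.mul0u4
  have h44 := fuse44 A.amb (A.pair 0) (A.norm 0) A.mul0u4
  rw [A.B_u4] at h44
  simp only [u0, map_sub, map_smul, map_add, LinearMap.add_apply, LinearMap.sub_apply, LinearMap.smul_apply] at h04
  rw [h44] at h04
  simp only [u4, map_add, map_sub, map_smul, LinearMap.add_apply, LinearMap.smul_apply,
    A.idem, A.comm (A.a 1) (A.a 0), A.comm (A.a (-1)) (A.a 0), A.comm (A.a (-1)) (A.a 1), A.comm A.s (A.a 0),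
    A.comm A.s (A.a 1), A.comm A.s (A.a (-1)), A.mul01, A.mul0m1, A.mul02, A.mul0m2, A.mul1m1, A.mul0s, A.mul1s,
    A.mulm1s, A.mul0so] at h04
  linear_combination (norm := module) (1 / 4 : ℝ) • h04

/-- Six consecutive axes are dependent. -/
lemma rel : A.a 3 = A.a (-2) + (256 * A.L - 6) • A.a (-1) +
    (33 / 7 - 2304 / 7 * A.L + 32768 / 7 * A.L ^ 2 + 128 / 7 * A.O) • A.a 0 +
    (-33 / 7 + 2304 / 7 * A.L - 32768 / 7 * A.L ^ 2 - 128 / 7 * A.E) • A.a 1 +
    (6 - 256 * A.L) • A.a 2 + (32 : ℝ) • (A.so - A.se) := by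
  have h := A.mulss
  have h' := (A.shift 1).mulss
  rw [shift_s_one, shift_se_one, shift_so_one, shift_L, shift_O_one, h] at h'
  simp only [shift_a] at h'
  norm_num at h'
  linear_combination (norm := module) (-(196608 / 49) : ℝ) • h'

end Orb

end Cfsg.Agent.Lib.Axial.Sakuma
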