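import Cfsg.Agent.Lib.Axial.Sakuma

/-!
Inner products along the orbit of axes, the two polynomial equations, and periodicity.
-/

set_option autoImplicit false
set_option maxHeartbeats 4000000

namespace Cfsg.Agent.Lib.Axial.Sakuma

open Cfsg.Axial Cfsg.Agent.Lib.Axial.MajoranaPair Cfsg.Agent.Lib.Axial.Dihedral

variable {V : Type*} [AddCommGroup V] [Module ℝ V]
variable {mul : V →ₗ[ℝ] V →ₗ[ℝ] V} {B : LinearMap.BilinForm ℝ V}

namespace Orb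

variable (A : Orb mul B)
include A

/-- Inner product at distance three. -/
def D3 : ℝ := B (A.a 0) (A.a 3)
/-- Inner product at distance four from an even index. -/
def F4 : ℝ := B (A.a 0) (A.a 4)
/-- Inner product at distance four from an odd index. -/
def G4 : ℝ := B (A.a 1) (A.a (-3))
/-- Inner product at distance five. -/
def D5 : ℝ := B (A.a 0) (A.a 5)

lemma red_step (i : ℤ) : red mul (A.a i) (A.a (i + 1)) = A.s := by
  have key : ∀ j : ℤ, red mul (A.a (j + 1)) (A.a (j + 1 + 1)) = red mul (A.a j) (A.a (j + 1)) := fun j => by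
    rw [A.red_comm (A.a j), ← A.red_refl (j + 1) j, show 2 * (j + 1) - j = j + 1 + 1 by ring]
  induction i with
  | zero => rfl
  | succ i ih => rw [key, ih]
  | pred i ih =>
    rw [← key, ← ih]
    congr 3 <;> ring

lemma red_two (k : ℤ) : red mul (A.a (2 * k)) (A.a (2 * k + 2)) = A.se := by
  have key : ∀ j : ℤ, red mul (A.a (2 * j + 2)) (A.a (2 * j + 2 + 2)) = red mul (A.a (2 * j)) (A.a (2 * j + 2)) :=
    fun j => by rw [A.red_comm (A.a (2 * j)), ← A.red_refl (2 * j + 2) (2 * j),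
      show 2 * (2 * j + 2) - 2 * j = 2 * j + 2 + 2 by ring]
  induction k with
  | zero => rfl
  | succ i ih =>
    rw [show 2 * ((i : ℤ) + 1) = 2 * i + 2 by ring, key, ih]
  | pred i ih =>
    have h := key (-(i : ℤ) - 1)
    rw [show 2 * (-(i : ℤ) - 1) + 2 = 2 * -(i : ℤ) by ring, ih] at h
    rw [show 2 * (-(i : ℤ) - 1) + 2 = 2 * -(i : ℤ) by ring]
    exact h.symm

lemma mul_step (i : ℤ) : mul (A.a i) (A.a (i + 1)) = A.s + (1 / 32 : ℝ) • (A.a i + A.a (i + 1)) := by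
  rw [mul_eq_red, A.red_step]

lemma mul_as (i : ℤ) : mul (A.a i) A.s = (3 / 4 * A.L - 25 / 1024) • A.a i +
    (7 / 2048 : ℝ) • (A.a (i + 1) + A.a (i - 1)) + (7 / 32 : ℝ) • A.s := by
  have h := mul_red A.amb (A.pair i) (A.norm i) (x := A.a (i + 1)) (y := A.a (i - 1))
    (by rw [A.refl]; congr 1; ring) (by rw [A.refl]; congr 1; ring)
  rwa [A.red_step, show B (A.a i) (A.a (i + 1)) = A.L from A.dist_odd i 0] at h

lemma mul_ase (k : ℤ) : mul (A.a (2 * k)) A.se = (3 / 4 * A.E - 25 / 1024) • A.a (2 * k) +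
    (7 / 2048 : ℝ) • (A.a (2 * k + 2) + A.a (2 * k - 2)) + (7 / 32 : ℝ) • A.se := by
  have h := mul_red A.amb (A.pair (2 * k)) (A.norm _) (x := A.a (2 * k + 2)) (y := A.a (2 * k - 2))
    (by rw [A.refl]; congr 1; ring) (by rw [A.refl]; congr 1; ring)
  rwa [A.red_two, show B (A.a (2 * k)) (A.a (2 * k + 2)) = A.E from A.dist_even k 2] at h

lemma mul_aso (k : ℤ) : mul (A.a (2 * k + 1)) A.so = (3 / 4 * A.O - 25 / 1024) • A.a (2 * k + 1) +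
    (7 / 2048 : ℝ) • (A.a (2 * k + 3) + A.a (2 * k - 1)) + (7 / 32 : ℝ) • A.so := by
  have h := (A.shift 1).mul_ase k
  rw [shift_se_one, shift_E_one] at h
  simp only [shift_a] at h
  rw [show (2 * k + 2 + 1 : ℤ) = 2 * k + 3 by ring, show (2 * k - 2 + 1 : ℤ) = 2 * k - 1 by ring] at h
  exact h

lemma B_as (i : ℤ) : B (A.a i) A.s = A.L - (1 + A.L) / 32 := by
  have h := B_red (x := A.a (i + 1)) A.amb (A.idem i) (A.norm i)
  rwa [A.red_step, show B (A.a i) (A.a (i + 1)) = A.L from A.dist_odd i 0] at h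

lemma B_ase (k : ℤ) : B (A.a (2 * k)) A.se = A.E - (1 + A.E) / 32 := by
  have h := B_red (x := A.a (2 * k + 2)) A.amb (A.idem _) (A.norm (2 * k))
  rwa [A.red_two, show B (A.a (2 * k)) (A.a (2 * k + 2)) = A.E from A.dist_even k 2] at h

lemma B_ase' (k : ℤ) : B (A.a (2 * k + 1)) A.se = A.L - (1 + A.L) / 32 + (A.E - A.L) / 32 := by
  have h0 : A.se = mul (A.a (2 * k)) (A.a (2 * k + 2)) - (1 / 32 : ℝ) • (A.a (2 * k) + A.a (2 * k + 2)) := by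
    rw [← A.red_two k]; rfl
  have h1 : mul (A.a (2 * k + 1)) (A.a (2 * k)) = A.s + (1 / 32 : ℝ) • (A.a (2 * k) + A.a (2 * k + 1)) := by
    rw [A.comm, A.mul_step]
  have h2 : B (A.a (2 * k + 1)) (A.a (2 * k + 2)) = A.L := by
    rw [show (2 * k + 2 : ℤ) = 2 * k + 1 + (2 * 0 + 1) by ring]; exact A.dist_odd _ 0
  have h3 : B (A.a (2 * k)) (A.a (2 * k + 1)) = A.L := A.dist_even k 1
  have h4 : B (A.a (2 * k)) (A.a (2 * k + 2)) = A.E := A.dist_even k 2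
  rw [h0, map_sub, map_smul, map_add, A.ass, h1]
  simp only [map_add, map_smul, LinearMap.add_apply, LinearMap.smul_apply, smul_eq_mul, h2, h4,
    A.bsymm A.s, A.B_as, A.bsymm (A.a (2 * k + 1)) (A.a (2 * k)), h3]
  ring

lemma B_aso (k : ℤ) : B (A.a (2 * k + 1)) A.so = A.O - (1 + A.O) / 32 := by
  have h := (A.shift 1).B_ase k
  rwa [shift_se_one, shift_E_one, shift_a] at h

lemma B_aso' (k : ℤ) : B (A.a (2 * k)) A.so = A.L - (1 + A.L) / 32 + (A.O - A.L) / 32 := by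
  have h := (A.shift 1).B_ase' (k - 1)
  rwa [shift_se_one, shift_E_one, shift_L, shift_a, show 2 * (k - 1) + 1 + 1 = 2 * k by ring] at h

lemma B_dist {i j : ℤ} (m : ℤ) (h : j = i + (2 * m + 1)) : B (A.a i) (A.a j) = B (A.a 0) (A.a (2 * m + 1)) := by
  subst h; exact A.dist_odd i m

/-- Small inner products between axes. -/
lemma B_list :
    (B (A.a 0) (A.a (-2)) = A.E ∧ B (A.a 0) (A.a 2) = A.E ∧ B (A.a 1) (A.a (-1)) = A.O ∧ B (A.a 1) (A.a 3) = A.O ∧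
      B (A.a (-2)) (A.a 2) = A.F4 ∧ B (A.a (-1)) (A.a 3) = A.G4) ∧
    (B (A.a 0) (A.a 1) = A.L ∧ B (A.a 0) (A.a (-1)) = A.L ∧ B (A.a 1) (A.a 2) = A.L ∧ B (A.a (-2)) (A.a (-1)) = A.L ∧
      B (A.a 2) (A.a 3) = A.L) ∧
    (B (A.a 0) (A.a 3) = A.D3 ∧ B (A.a (-2)) (A.a 1) = A.D3 ∧ B (A.a (-1)) (A.a 2) = A.D3 ∧
      B (A.a (-2)) (A.a 3) = A.D5 ∧ B (A.a 0) (A.a 5) = A.D5) := by
  refine ⟨⟨A.dist_neg 2, rfl, rfl, ?_, ?_, ?_⟩, ⟨rfl, A.B_0m1, ?_, ?_, ?_⟩, ⟨rfl, ?_, ?_, ?_, rfl⟩⟩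
  · show _ = B (A.a 1) (A.a (-1))
    rw [← A.mirror 1 1 (-1)]; norm_num
  · show _ = B (A.a 0) (A.a 4)
    rw [← A.transl 1 (-2) 2]; norm_num
  · show _ = B (A.a 1) (A.a (-3))
    rw [A.bsymm (A.a 1), ← A.transl 1 (-3) 1]; norm_num
  · exact A.B_dist 0 (by norm_num)
  · exact A.B_dist 0 (by norm_num)
  · exact A.B_dist 0 (by norm_num)
  · exact A.B_dist 1 (by norm_num)
  · exact A.B_dist 1 (by norm_num)
  · exact A.B_dist 2 (by norm_num)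

lemma B_ss : B A.s A.s = -3 / 2048 + 65 / 512 * A.L + 3 / 4 * A.L ^ 2 + 7 / 2048 * A.O := by
  have h := A.B_u4
  obtain ⟨⟨-, -, e1, -, -, -⟩, ⟨e2, e3, -⟩, -⟩ := A.B_list
  simp only [u4, map_add, map_smul, LinearMap.add_apply, LinearMap.smul_apply, smul_eq_mul, A.norm,
    A.bsymm (A.a 1) (A.a 0), A.bsymm (A.a (-1)) (A.a 0), A.bsymm (A.a (-1)) (A.a 1), e1, e2, e3,
    A.bsymm A.s (A.a _), A.B_as] at h
  linear_combination (1 / 16 : ℝ) * h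

lemma B_sse : B A.s A.se = (3 / 4 * A.L - 25 / 1024) * A.E + 7 / 2048 * (A.L + A.D3) +
    7 / 32 * (A.L - (1 + A.L) / 32) - (A.L - (1 + A.L) / 32) / 16 := by
  obtain ⟨⟨-, e1, -⟩, ⟨-, -, e2, -⟩, ⟨-, -, e3, -⟩⟩ := A.B_list
  have h : B A.s A.se = B (mul (A.a 0) A.s) (A.a 2) - (1 / 32) * (B A.s (A.a 0) + B A.s (A.a 2)) := by
    rw [show A.se = mul (A.a 0) (A.a 2) - (1 / 32 : ℝ) • (A.a 0 + A.a 2) from rfl, map_sub, map_smul, map_add,
      A.ass, A.comm A.s (A.a 0), smul_eq_mul]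
  rw [h, A.mul0s]
  simp only [map_add, map_smul, LinearMap.add_apply, LinearMap.smul_apply, smul_eq_mul, e1, e2, e3, A.bsymm A.s,
    A.B_as]
  ring

lemma shift_D3_one : (A.shift 1).D3 = A.D3 := A.B_dist 1 (by norm_num)

lemma B_sso : B A.s A.so = (3 / 4 * A.L - 25 / 1024) * A.O + 7 / 2048 * (A.L + A.D3) +
    7 / 32 * (A.L - (1 + A.L) / 32) - (A.L - (1 + A.L) / 32) / 16 := by
  have h := (A.shift 1).B_sse
  rwa [shift_s_one, shift_se_one, shift_L, shift_E_one, shift_D3_one] at h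

lemma B_ab (i : ℤ) : B A.s (A.a i) = A.L - (1 + A.L) / 32 := by rw [A.bsymm]; exact A.B_as i

lemma B_a_vals : B (A.a 0) A.se = A.E - (1 + A.E) / 32 ∧ B (A.a 2) A.se = A.E - (1 + A.E) / 32 ∧
    B (A.a (-2)) A.se = A.E - (1 + A.E) / 32 ∧
    B (A.a 1) A.se = A.L - (1 + A.L) / 32 + (A.E - A.L) / 32 ∧
    B (A.a (-1)) A.se = A.L - (1 + A.L) / 32 + (A.E - A.L) / 32 ∧
    B (A.a 3) A.se = A.L - (1 + A.L) / 32 + (A.E - A.L) / 32 ∧
    B (A.a 1) A.so = A.O - (1 + A.O) / 32 ∧ B (A.a (-1)) A.so = A.O - (1 + A.O) / 32 ∧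
    B (A.a 3) A.so = A.O - (1 + A.O) / 32 ∧
    B (A.a 0) A.so = A.L - (1 + A.L) / 32 + (A.O - A.L) / 32 ∧
    B (A.a 2) A.so = A.L - (1 + A.L) / 32 + (A.O - A.L) / 32 ∧
    B (A.a (-2)) A.so = A.L - (1 + A.L) / 32 + (A.O - A.L) / 32 :=
  ⟨A.B_ase 0, A.B_ase 1, (show (2 * -1 : ℤ) = -2 by norm_num) ▸ A.B_ase (-1), A.B_ase' 0,
    (show (2 * -1 + 1 : ℤ) = -1 by norm_num) ▸ A.B_ase' (-1), A.B_ase' 1, A.B_aso 0,
    (show (2 * -1 + 1 : ℤ) = -1 by norm_num) ▸ A.B_aso (-1), A.B_aso 1,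
    A.B_aso' 0, A.B_aso' 1, (show (2 * -1 : ℤ) = -2 by norm_num) ▸ A.B_aso' (-1)⟩

/-- The relation paired with an arbitrary vector. -/
lemma rel_dot (x : V) : B (A.a 3) x = B (A.a (-2)) x + (256 * A.L - 6) * B (A.a (-1)) x +
    (33 / 7 - 2304 / 7 * A.L + 32768 / 7 * A.L ^ 2 + 128 / 7 * A.O) * B (A.a 0) x +
    (-33 / 7 + 2304 / 7 * A.L - 32768 / 7 * A.L ^ 2 - 128 / 7 * A.E) * B (A.a 1) x +
    (6 - 256 * A.L) * B (A.a 2) x + 32 * (B A.so x - B A.se x) := by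
  conv_lhs => rw [A.rel]
  simp only [map_add, map_sub, map_smul, LinearMap.add_apply, LinearMap.sub_apply, LinearMap.smul_apply, smul_eq_mul]

/-- The two parities give the same inner product at distance two. -/
lemma E_eq_O : A.E = A.O := by
  obtain ⟨⟨f1, f2, f3, f4, f5, f6⟩, ⟨g1, g2, g3, g4, g5⟩, ⟨h1, h2, h3, h4, h5⟩⟩ := A.B_list
  obtain ⟨v1, v2, v3, v4, v5, v6, v7, v8, v9, w1, w2, w3⟩ := A.B_a_vals
  have r0 := A.rel_dot (A.a 0)
  have r1 := A.rel_dot (A.a 1)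
  have rs := A.rel_dot A.s
  simp only [A.norm, f1, f2, f3, f4, g1, g2, g3, h1, h2, v1, v4, v7, w1, A.bsymm A.so (A.a _), A.bsymm A.se (A.a _),
    A.bsymm (A.a 3) (A.a _), A.bsymm (A.a (-2)) (A.a 0), A.bsymm (A.a (-1)) (A.a _), A.bsymm (A.a 1) (A.a 0),
    A.bsymm (A.a 2) (A.a _)] at r0 r1
  simp only [A.B_as, A.bsymm A.so A.s, A.bsymm A.se A.s, A.B_sse, A.B_sso] at rs
  by_contra hne
  have e1 : (A.E - A.O) * (303 + 1920 * A.L) = 0 := by linear_combination 7 * r0 + 7 * r1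
  have e2 : (A.E - A.O) * (303 / 224 - 292 / 7 * A.L) = 0 := by linear_combination -rs
  have k1 := (mul_eq_zero.1 e1).resolve_left (sub_ne_zero.2 hne)
  have k2 := (mul_eq_zero.1 e2).resolve_left (sub_ne_zero.2 hne)
  linarith

lemma D3_eq : A.D3 = 33 / 7 - 33 / 7 * A.E - 1920 / 7 * A.E * A.L - 2169 / 7 * A.L + 36864 / 7 * A.L ^ 2 -
    32768 / 7 * A.L ^ 3 := by
  obtain ⟨⟨f1, f2, f3, f4, f5, f6⟩, ⟨g1, g2, g3, g4, g5⟩, ⟨h1, h2, h3, h4, h5⟩⟩ := A.B_list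
  obtain ⟨v1, v2, v3, v4, v5, v6, v7, v8, v9, w1, w2, w3⟩ := A.B_a_vals
  have r0 := A.rel_dot (A.a 0)
  simp only [A.norm, f1, f2, g1, g2, h1, v1, w1, A.bsymm A.so (A.a _), A.bsymm A.se (A.a _),
    A.bsymm (A.a 3) (A.a _), A.bsymm (A.a (-2)) (A.a 0), A.bsymm (A.a (-1)) (A.a _), A.bsymm (A.a 1) (A.a 0),
    A.bsymm (A.a 2) (A.a _), ← A.E_eq_O] at r0
  linear_combination r0

/-- The value of the distance-four inner products. -/
noncomputable def valF (L E : ℝ) : ℝ := 156 / 7 - 3 * E - 640 / 7 * E * L + 65536 * E * L ^ 2 - 128 / 7 * E ^ 2 -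
  19840 / 7 * L + 110592 * L ^ 2 - 9601024 / 7 * L ^ 3 + 8388608 / 7 * L ^ 4

lemma F4_eq : A.F4 = valF A.L A.E := by
  obtain ⟨⟨f1, f2, f3, f4, f5, f6⟩, ⟨g1, g2, g3, g4, g5⟩, ⟨h1, h2, h3, h4, h5⟩⟩ := A.B_list
  obtain ⟨v1, v2, v3, v4, v5, v6, v7, v8, v9, w1, w2, w3⟩ := A.B_a_vals
  have r := A.rel_dot (A.a 2)
  simp only [A.norm, f2, f5, g3, g5, h3, v2, w2, A.bsymm A.so (A.a _), A.bsymm A.se (A.a _),
    A.bsymm (A.a 3) (A.a 2), ← A.E_eq_O, A.D3_eq] at r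
  simp only [valF]
  linear_combination -r

lemma G4_eq : A.G4 = valF A.L A.E := by
  obtain ⟨⟨f1, f2, f3, f4, f5, f6⟩, ⟨g1, g2, g3, g4, g5⟩, ⟨h1, h2, h3, h4, h5⟩⟩ := A.B_list
  obtain ⟨v1, v2, v3, v4, v5, v6, v7, v8, v9, w1, w2, w3⟩ := A.B_a_vals
  have r := A.rel_dot (A.a (-1))
  simp only [A.norm, f3, f6, g2, g4, h3, v5, v8, A.bsymm A.so (A.a _), A.bsymm A.se (A.a _),
    A.bsymm (A.a 3) (A.a (-1)), A.bsymm (A.a 2) (A.a (-1)), ← A.E_eq_O, A.D3_eq] at r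
  simp only [valF]
  linear_combination r

/-- The value of the distance-five inner product. -/
noncomputable def valD5 (L E : ℝ) : ℝ := 5512 / 49 - 5256 / 49 * E + 259584 / 49 * E * L +
  12582912 / 49 * E * L ^ 2 - 754974720 / 49 * E * L ^ 3 - 256 / 49 * E ^ 2 + 475136 / 49 * E ^ 2 * L -
  137721 / 7 * L + 8683520 / 7 * L ^ 2 - 1633419264 / 49 * L ^ 3 + 16273899520 / 49 * L ^ 4 -
  13958643712 / 49 * L ^ 5

lemma D5_eq : A.D5 = valD5 A.L A.E := by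
  obtain ⟨⟨f1, f2, f3, f4, f5, f6⟩, ⟨g1, g2, g3, g4, g5⟩, ⟨h1, h2, h3, h4, h5⟩⟩ := A.B_list
  obtain ⟨v1, v2, v3, v4, v5, v6, v7, v8, v9, w1, w2, w3⟩ := A.B_a_vals
  have r := A.rel_dot (A.a (-2))
  simp only [A.norm, f1, f5, g4, h2, h4, v3, w3, A.bsymm A.so (A.a _), A.bsymm A.se (A.a _),
    A.bsymm (A.a 3) (A.a (-2)), A.bsymm (A.a 2) (A.a (-2)), A.bsymm (A.a 1) (A.a (-2)), A.bsymm (A.a (-1)) (A.a (-2)),
    A.bsymm (A.a 0) (A.a (-2)) ▸ f1, ← A.E_eq_O, A.D3_eq, A.F4_eq, valF] at r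
  simp only [valD5]
  linear_combination r

lemma B_sese : B A.se A.se = (3 / 4 * A.E - 25 / 1024) * A.E + 7 / 2048 * (1 + A.F4) +
    7 / 32 * (A.E - (1 + A.E) / 32) - (A.E - (1 + A.E) / 32) / 16 := by
  obtain ⟨⟨-, e1, -, -, e2, -⟩, -, -⟩ := A.B_list
  obtain ⟨v1, v2, -⟩ := A.B_a_vals
  have h : B A.se A.se = B (mul (A.a 0) A.se) (A.a 2) - (1 / 32) * (B A.se (A.a 0) + B A.se (A.a 2)) := by
    conv_lhs =>
      arg 2
      rw [show A.se = mul (A.a 0) (A.a 2) - (1 / 32 : ℝ) • (A.a 0 + A.a 2) from rfl]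
    rw [map_sub, map_smul, map_add, A.ass, A.comm A.se (A.a 0), smul_eq_mul]
  rw [h, A.mul0se]
  simp only [map_add, map_smul, LinearMap.add_apply, LinearMap.smul_apply, smul_eq_mul, e1, e2, A.norm,
    A.bsymm A.se (A.a _), v1, v2]
  ring

lemma B_soso : B A.so A.so = (3 / 4 * A.O - 25 / 1024) * A.O + 7 / 2048 * (1 + A.G4) +
    7 / 32 * (A.O - (1 + A.O) / 32) - (A.O - (1 + A.O) / 32) / 16 := by
  have h := (A.shift 1).B_sese
  have e : (A.shift 1).F4 = A.G4 := by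
    show B (A.a (0 + 1)) (A.a (4 + 1)) = B (A.a 1) (A.a (-3))
    rw [← A.mirror 1 1 (-3)]; norm_num
  rwa [shift_se_one, shift_E_one, e] at h

lemma B_soe : B A.so A.se = (-19 / 3072 + A.L / 6) * (A.L + A.D3) + 7 / 6144 * (1 + A.F4) +
    (-127 / 3072 + 5 / 3 * A.L - 32 / 3 * A.L ^ 2 - A.O / 24) * A.E +
    (-19 / 48 + 32 / 3 * A.L) * (A.L - (1 + A.L) / 32) + 7 / 96 * (A.E - (1 + A.E) / 32) -
    (A.L - (1 + A.L) / 32 + (A.O - A.L) / 32) / 16 := by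
  obtain ⟨⟨-, e1, -, -, e2, -⟩, ⟨-, -, e3, -⟩, ⟨-, -, e4, -⟩⟩ := A.B_list
  obtain ⟨v1, v2, -, -, -, -, -, -, -, w1, w2, -⟩ := A.B_a_vals
  have h : B A.so A.se = B (mul (A.a 0) A.so) (A.a 2) - (1 / 32) * (B A.so (A.a 0) + B A.so (A.a 2)) := by
    rw [show A.se = mul (A.a 0) (A.a 2) - (1 / 32 : ℝ) • (A.a 0 + A.a 2) from rfl, map_sub, map_smul, map_add,
      A.ass, A.comm A.so (A.a 0), smul_eq_mul]
  rw [h, A.mul0so]
  simp only [map_add, map_smul, LinearMap.add_apply, LinearMap.smul_apply, smul_eq_mul, e1, e2, e3, e4, A.norm,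
    A.B_ab, A.bsymm A.se (A.a _), A.bsymm A.so (A.a _), v2, w1, w2]
  ring

/-- The first equation. -/
lemma eqA : -117 / 56 + 501 / 56 * A.E - 3336 / 7 * A.E * A.L - 15360 / 7 * A.E * A.L ^ 2 - 48 / 7 * A.E ^ 2 +
    1800 / 7 * A.L - 69120 / 7 * A.L ^ 2 + 872448 / 7 * A.L ^ 3 - 786432 / 7 * A.L ^ 4 = 0 := by
  obtain ⟨v1, v2, v3, v4, v5, v6, v7, v8, v9, w1, w2, w3⟩ := A.B_a_vals
  have r := A.rel_dot A.se
  simp only [v1, v2, v3, v4, v5, v6, A.B_sese, A.B_soe, ← A.E_eq_O, A.D3_eq, A.F4_eq, valF] at r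
  linear_combination -r

/-- The second equation. -/
lemma eqB : -2808 - 146232 / 7 * A.E + 1414656 * A.E * A.L - 240058368 / 7 * A.E * A.L ^ 2 +
    2264924160 / 7 * A.E * A.L ^ 3 + 165888 / 7 * A.E ^ 2 + 1179648 * A.E ^ 2 * A.L + 3368448 / 7 * A.L -
    199065600 / 7 * A.L ^ 2 + 4947443712 / 7 * A.L ^ 3 - 6492782592 * A.L ^ 4 + 38654705664 / 7 * A.L ^ 5 = 0 := by
  obtain ⟨⟨f1, f2, f3, f4, f5, f6⟩, ⟨g1, g2, g3, g4, g5⟩, ⟨h1, h2, h3, h4, h5⟩⟩ := A.B_list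
  obtain ⟨v1, v2, v3, v4, v5, v6, v7, v8, v9, w1, w2, w3⟩ := A.B_a_vals
  have key : B (A.a 3) (mul (A.a 0) A.so) = B (A.a 0) (mul (A.a 3) A.so) := by
    rw [A.ass, A.ass, A.comm (A.a 3) (A.a 0)]
  have h' := A.mul_aso 1
  norm_num at h'
  rw [A.mul0so, h'] at key
  simp only [map_add, map_smul, smul_eq_mul, A.norm, A.B_as, v6, w1, h1, h5, g1,
    A.bsymm (A.a 3) (A.a 1) ▸ f4, A.bsymm (A.a 3) (A.a 2) ▸ g5, A.bsymm (A.a 3) (A.a 0) ▸ h1,
    A.bsymm (A.a 3) (A.a (-1)) ▸ f6, A.bsymm (A.a 3) (A.a (-2)) ▸ h4, ← A.E_eq_O, A.D3_eq, A.F4_eq, A.G4_eq, A.D5_eq,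
    valF, valD5] at key
  linear_combination 6144 * key

/-- The nine possibilities. -/
lemma solutions : (A.L = 1 ∧ A.E = 1) ∨ (A.L = 0 ∧ A.E = 1) ∨ (A.L = 1 / 8 ∧ A.E = 1) ∨
    (A.L = 13 / 256 ∧ A.E = 13 / 256) ∨ (A.L = 1 / 64 ∧ A.E = 1 / 64) ∨ (A.L = 1 / 32 ∧ A.E = 0) ∨
    (A.L = 1 / 64 ∧ A.E = 1 / 8) ∨ (A.L = 3 / 128 ∧ A.E = 3 / 128) ∨ (A.L = 5 / 256 ∧ A.E = 13 / 256) := by
  have hA := A.eqA
  have hB := A.eqB
  have hW : (A.L - 1 / 64) * A.E + (1 / 64 - 27790719 / 9609535 * A.L + 975701696 / 4551885 * A.L ^ 2 -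
      714219565568 / 86485815 * A.L ^ 3 + 3003188641792 / 17297163 * A.L ^ 4 -
      8453605031936 / 4551885 * A.L ^ 5 + 686570923360256 / 86485815 * A.L ^ 6 -
      540272526098432 / 86485815 * A.L ^ 7) = 0 := by
    linear_combination (-8928599 / 1845030720 + 1547972 / 336333725 * A.E + 699529472 / 3027003525 * A.E * A.L +
        128811008 / 1297287225 * A.E * A.L ^ 2 + 26495887 / 121080141 * A.L - 50818816 / 7511175 * A.L ^ 2 +
        780831637504 / 9081010575 * A.L ^ 3 + 16487809024 / 9081010575 * A.L ^ 4) * hA +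
      (-14609123 / 7439163863040 + 386993 / 290592338400 * A.E + 15724 / 27243031725 * A.E * A.L +
        30476651 / 348710806080 * A.L + 16905968 / 27243031725 * A.L ^ 2 + 1006336 / 27243031725 * A.L ^ 3) * hB
  have hU : A.L * (A.L - 1) * (A.L - 1 / 8) * (A.L - 13 / 256) * (A.L - 1 / 64) * (A.L - 1 / 32) *
      (A.L - 3 / 128) * (A.L - 5 / 256) = 0 := by
    linear_combination (-3367 / 5629499534213120 - 431 / 87960930222080 * A.E -
        24623 / 28862180229120 * A.E * A.L - 8767 / 225485783040 * A.E * A.L ^ 2 +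
        1 / 880803840 * A.E * A.L ^ 3 + 3 / 2405181685760 * A.E ^ 2 + 1 / 16106127360 * A.E ^ 2 * A.L +
        105527 / 263882790666240 * A.L - 29675 / 962072674304 * A.L ^ 2 + 118291 / 112742891520 * A.L ^ 3 -
        2071 / 146800640 * A.L ^ 4) * hA +
      (481 / 1080863910568919040 - 557 / 354658470655426560 * A.E - 209 / 1108307720798208 * A.E * A.L +
        1 / 43293270343680 * A.E * A.L ^ 2 + 1 / 2770769301995520 * A.E ^ 2 +
        16259 / 70931694131085312 * A.L - 123 / 8796093022208 * A.L ^ 2 - 2293 / 21646635171840 * A.L ^ 3) * hB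
  simp only [mul_eq_zero, sub_eq_zero] at hU
  rcases hU with ((((((h | h) | h) | h) | h) | h) | h) | h
  · exact Or.inr (Or.inl ⟨h, by rw [h] at hW; norm_num at hW; linarith⟩)
  · exact Or.inl ⟨h, by rw [h] at hW; norm_num at hW; linarith⟩
  · exact Or.inr (Or.inr (Or.inl ⟨h, by rw [h] at hW; norm_num at hW; linarith⟩))
  · exact Or.inr (Or.inr (Or.inr (Or.inl ⟨h, by rw [h] at hW; norm_num at hW; linarith⟩)))
  · have hq : (A.E - 1 / 64) * (A.E - 1 / 8) = 0 := by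
      rw [h] at hA; linear_combination (-(7 / 48) : ℝ) * hA
    rcases mul_eq_zero.1 hq with h' | h'
    · exact Or.inr (Or.inr (Or.inr (Or.inr (Or.inl ⟨h, by linarith⟩))))
    · exact Or.inr (Or.inr (Or.inr (Or.inr (Or.inr (Or.inr (Or.inl ⟨h, by linarith⟩))))))
  · exact Or.inr (Or.inr (Or.inr (Or.inr (Or.inr (Or.inl ⟨h, by rw [h] at hW; norm_num at hW; linarith⟩)))))
  · exact Or.inr (Or.inr (Or.inr (Or.inr (Or.inr (Or.inr (Or.inr (Or.inl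
      ⟨h, by rw [h] at hW; norm_num at hW; linarith⟩)))))))
  · exact Or.inr (Or.inr (Or.inr (Or.inr (Or.inr (Or.inr (Or.inr (Or.inr
      ⟨h, by rw [h] at hW; norm_num at hW; linarith⟩)))))))

lemma eq_of_inner_one {i j : ℤ} (h : B (A.a i) (A.a j) = 1) : A.a i = A.a j := by
  by_contra hne
  have h' := A.amb.2.2.1 (A.a i - A.a j) (sub_ne_zero.2 hne)
  simp only [map_sub, LinearMap.sub_apply, A.norm, A.bsymm (A.a j) (A.a i), h] at h'
  norm_num at h'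

/-- Two axes of the orbit coincide at distance at most six. -/
lemma periodic : A.a 2 = A.a 0 ∨ A.a 3 = A.a 0 ∨ A.a 4 = A.a 0 ∨ A.a 3 = A.a (-2) ∨ A.a 3 = A.a (-3) := by
  rcases A.solutions with ⟨hL, hE⟩ | ⟨hL, hE⟩ | ⟨hL, hE⟩ | ⟨hL, hE⟩ | ⟨hL, hE⟩ | ⟨hL, hE⟩ | ⟨hL, hE⟩ | ⟨hL, hE⟩ |
    ⟨hL, hE⟩
  iterate 3 exact Or.inl (A.eq_of_inner_one (show B (A.a 0) (A.a 2) = 1 from hE)).symm
  iterate 2
    refine Or.inr (Or.inl (A.eq_of_inner_one (show B (A.a 0) (A.a 3) = 1 from ?_)).symm)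
    show A.D3 = 1
    rw [A.D3_eq, hL, hE]; norm_num
  iterate 2
    refine Or.inr (Or.inr (Or.inl (A.eq_of_inner_one (show B (A.a 0) (A.a 4) = 1 from ?_)).symm))
    show A.F4 = 1
    rw [A.F4_eq, valF, hL, hE]; norm_num
  · refine Or.inr (Or.inr (Or.inr (Or.inl (A.eq_of_inner_one (i := 3) (j := -2) ?_))))
    rw [A.bsymm, A.B_list.2.2.2.2.2.1, A.D5_eq, valD5, hL, hE]; norm_num
  · refine Or.inr (Or.inr (Or.inr (Or.inr ?_)))
    have h := congrArg (A.μ 0) A.rel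
    have e : A.μ 0 (A.so - A.se) = A.so - A.se := by
      have m := (A.pair 0).1
      simp only [so, se, red, map_sub, map_smul, map_add, m, A.refl]
      norm_num
      rw [show mul (A.a 0) (A.a (-2)) = red mul (A.a 0) (A.a (-2)) + (1 / 32 : ℝ) • (A.a 0 + A.a (-2)) from
        mul_eq_red _ _, ← A.red_refl 0 (-2)]
      norm_num
      simp only [red]
      rw [A.comm (A.a (-1)) (A.a 1)]
      module
    simp only [map_add, map_smul, e, A.refl, ← A.E_eq_O, hL, hE] at h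
    norm_num at h
    have h0 := A.rel
    simp only [← A.E_eq_O, hL, hE] at h0
    norm_num at h0
    rw [h0, h]
    module

end Orb

end Cfsg.Agent.Lib.Axial.Sakuma
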