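import Cfsg.Agent.Lib.Axial.SakumaEquations

/-!
Two Majorana involutions have product of order at most six.
-/

set_option autoImplicit false

namespace Cfsg.Agent.Lib.Axial.Sakuma

open Cfsg.Axial Cfsg.Agent.Lib.Axial.MajoranaPair

variable {V : Type*} [AddCommGroup V] [Module ℝ V]
variable {mul : V →ₗ[ℝ] V →ₗ[ℝ] V} {B : LinearMap.BilinForm ℝ V}

/-- The axis determines its involution. -/
lemma miyamoto_ext {μ ν : V ≃ₗ[ℝ] V} {a : V} (h : IsMajoranaPair mul B μ a) (h' : IsMajoranaPair mul B ν a) :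
    μ = ν := by
  refine LinearEquiv.ext fun v => ?_
  have hle : eigenSum mul a majoranaSpectrum ≤ LinearMap.ker ((μ : V →ₗ[ℝ] V) - (ν : V →ₗ[ℝ] V)) := by
    refine iSup₂_le fun c hc v hv => ?_
    rw [LinearMap.mem_ker, LinearMap.sub_apply, sub_eq_zero]
    simp only [majoranaSpectrum, Set.mem_insert_iff, Set.mem_singleton_iff] at hc
    have hplus : ∀ c ∈ ({1, 0, 1 / 4} : Set ℝ), eigen mul a c ≤ eigenSum mul a ({1, 0, 1 / 4} : Set ℝ) :=
      fun c hc => le_biSup (fun c => eigen mul a c) hc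
    rcases hc with rfl | rfl | rfl | rfl
    · rw [h.2.2.2.1 v (hplus _ (by simp) hv), h'.2.2.2.1 v (hplus _ (by simp) hv)]
    · rw [h.2.2.2.1 v (hplus _ (by simp) hv), h'.2.2.2.1 v (hplus _ (by simp) hv)]
    · rw [h.2.2.2.1 v (hplus _ (by simp) hv), h'.2.2.2.1 v (hplus _ (by simp) hv)]
    · rw [h.2.2.2.2 v hv, h'.2.2.2.2 v hv]
  rw [h.2.2.1.1.2.2.1] at hle
  exact sub_eq_zero.1 (hle (Submodule.mem_top : v ∈ ⊤))

lemma involutive {μ : V ≃ₗ[ℝ] V} {a : V} (h : IsMajoranaPair mul B μ a) : μ * μ = 1 := by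
  refine LinearEquiv.ext fun v => ?_
  have hle : eigenSum mul a majoranaSpectrum ≤
      LinearMap.ker ((μ : V →ₗ[ℝ] V) ∘ₗ (μ : V →ₗ[ℝ] V) - LinearMap.id) := by
    refine iSup₂_le fun c hc v hv => ?_
    rw [LinearMap.mem_ker, LinearMap.sub_apply, sub_eq_zero, LinearMap.comp_apply, LinearMap.id_apply]
    simp only [majoranaSpectrum, Set.mem_insert_iff, Set.mem_singleton_iff] at hc
    have hplus : ∀ c ∈ ({1, 0, 1 / 4} : Set ℝ), eigen mul a c ≤ eigenSum mul a ({1, 0, 1 / 4} : Set ℝ) :=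
      fun c hc => le_biSup (fun c => eigen mul a c) hc
    rcases hc with rfl | rfl | rfl | rfl
    · rw [h.2.2.2.1 v (hplus _ (by simp) hv), h.2.2.2.1 v (hplus _ (by simp) hv)]
    · rw [h.2.2.2.1 v (hplus _ (by simp) hv), h.2.2.2.1 v (hplus _ (by simp) hv)]
    · rw [h.2.2.2.1 v (hplus _ (by simp) hv), h.2.2.2.1 v (hplus _ (by simp) hv)]
    · rw [h.2.2.2.2 v hv, map_neg, h.2.2.2.2 v hv, neg_neg]
  rw [h.2.2.1.1.2.2.1] at hle
  exact sub_eq_zero.1 (hle (Submodule.mem_top : v ∈ ⊤))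

lemma fix_axis {μ : V ≃ₗ[ℝ] V} {a : V} (h : IsMajoranaPair mul B μ a) : μ a = a :=
  h.2.2.2.1 a (le_biSup (fun c => eigen mul a c) (by simp : (1 : ℝ) ∈ ({1, 0, 1 / 4} : Set ℝ))
    (mem_eigen.2 (by rw [one_smul, h.2.2.1.1.2.1])))

/-- Transport along an automorphism. -/
lemma pair_conj {μ φ : V ≃ₗ[ℝ] V} {a : V} (hφ : ∀ u v : V, φ (mul u v) = mul (φ u) (φ v))
    (hBφ : ∀ u v : V, B (φ u) (φ v) = B u v) (h : IsMajoranaPair mul B μ a) :
    IsMajoranaPair mul B (φ * μ * φ⁻¹) (φ a) := by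
  obtain ⟨hm, hB, ⟨⟨hne, hid, htop, hfus⟩, h1⟩, hfix, hneg⟩ := h
  have happ : ∀ v, (φ * μ * φ⁻¹) (φ v) = φ (μ v) := fun v => by
    show φ (μ (φ.symm (φ v))) = _
    rw [φ.symm_apply_apply]
  refine ⟨fun u v => ?_, fun u v => ?_, ⟨⟨?_, ?_, ?_, ?_⟩, ?_⟩, ?_, ?_⟩
  · obtain ⟨u, rfl⟩ := φ.surjective u
    obtain ⟨v, rfl⟩ := φ.surjective v
    rw [← hφ, happ, happ, happ, hm, hφ]
  · obtain ⟨u, rfl⟩ := φ.surjective u
    obtain ⟨v, rfl⟩ := φ.surjective v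
    rw [happ, happ, hBφ, hB, hBφ]
  · simpa using hne
  · rw [← hφ, hid]
  · rw [eigenSum_map φ hφ, htop, Submodule.map_top, LinearEquiv.range]
  · intro c hc' d hd u hu v hv
    rw [eigen_map φ hφ] at hu hv
    obtain ⟨x, hx, rfl⟩ := hu
    obtain ⟨y, hy, rfl⟩ := hv
    rw [eigenSum_map φ hφ]
    exact ⟨mul x y, hfus c hc' d hd x hx y hy, hφ x y⟩
  · rw [eigen_map φ hφ, h1, Submodule.map_span, Set.image_singleton, LinearEquiv.coe_coe]
  · intro v hv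
    rw [eigenSum_map φ hφ] at hv
    obtain ⟨x, hx, rfl⟩ := hv
    have := hfix x hx
    simp only [LinearEquiv.coe_coe] at this ⊢
    rw [happ, this]
  · intro v hv
    rw [eigen_map φ hφ] at hv
    obtain ⟨x, hx, rfl⟩ := hv
    have := hneg x hx
    simp only [LinearEquiv.coe_coe] at this ⊢
    rw [happ, this, map_neg]

/-- Automorphisms of the product and the form. -/
def autos (mul : V →ₗ[ℝ] V →ₗ[ℝ] V) (B : LinearMap.BilinForm ℝ V) : Subgroup (V ≃ₗ[ℝ] V) where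
  carrier := {φ | (∀ u v : V, φ (mul u v) = mul (φ u) (φ v)) ∧ ∀ u v : V, B (φ u) (φ v) = B u v}
  one_mem' := ⟨fun _ _ => rfl, fun _ _ => rfl⟩
  mul_mem' := fun {φ ψ} hφ hψ => ⟨fun u v => (congrArg φ (hψ.1 u v)).trans (hφ.1 _ _),
    fun u v => (hφ.2 _ _).trans (hψ.2 u v)⟩
  inv_mem' := fun {φ} hφ => ⟨fun u v => φ.injective (by
      show φ (φ.symm (mul u v)) = φ (mul (φ.symm u) (φ.symm v))
      rw [hφ.1, φ.apply_symm_apply, φ.apply_symm_apply, φ.apply_symm_apply]),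
    fun u v => by
      show B (φ.symm u) (φ.symm v) = B u v
      rw [← hφ.2, φ.apply_symm_apply, φ.apply_symm_apply]⟩

theorem order_le_six (hV : IsMajoranaAmbient mul B) {μ₀ μ₁ : V ≃ₗ[ℝ] V} {a₀ a₁ : V}
    (h₀ : IsMajoranaPair mul B μ₀ a₀) (h₁ : IsMajoranaPair mul B μ₁ a₁) (hn₀ : B a₀ a₀ = 1) (hn₁ : B a₁ a₁ = 1) :
    ∃ n : ℕ, 1 ≤ n ∧ n ≤ 6 ∧ (μ₀ * μ₁) ^ n = 1 := by
  set τ : V ≃ₗ[ℝ] V := μ₁ * μ₀ with hτ
  have s0 := involutive h₀
  have s1 := involutive h₁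
  have i0 : μ₀⁻¹ = μ₀ := inv_eq_of_mul_eq_one_right s0
  have i1 : μ₁⁻¹ = μ₁ := inv_eq_of_mul_eq_one_right s1
  have hτi : τ⁻¹ = μ₀ * μ₁ := by rw [hτ, _root_.mul_inv_rev, i0, i1]
  have hflip : ∀ k : ℤ, μ₀ * τ ^ k = τ ^ (-k) * μ₀ := by
    intro k
    have h : SemiconjBy μ₀ τ τ⁻¹ := by
      show μ₀ * τ = τ⁻¹ * μ₀
      rw [hτi, hτ, mul_assoc]
    rw [(h.zpow_right k).eq, inv_zpow']
  have haut : ∀ k : ℤ, τ ^ k ∈ autos mul B := fun k =>
    zpow_mem (mul_mem (show μ₁ ∈ autos mul B from ⟨h₁.1, h₁.2.1⟩) (show μ₀ ∈ autos mul B from ⟨h₀.1, h₀.2.1⟩)) k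
  let a : ℤ → V := fun i => (τ ^ (i / 2)) (if i % 2 = 0 then a₀ else a₁)
  let μ : ℤ → (V ≃ₗ[ℝ] V) := fun i => τ ^ i * μ₀
  have hμ : ∀ i, μ i = τ ^ (i / 2) * (if i % 2 = 0 then μ₀ else μ₁) * (τ ^ (i / 2))⁻¹ := by
    intro i
    have hi := Int.mul_ediv_add_emod i 2
    rcases Int.emod_two_eq_zero_or_one i with h | h
    · rw [if_pos h, ← _root_.zpow_neg, mul_assoc, hflip, ← mul_assoc, ← _root_.zpow_add, neg_neg]
      show τ ^ i * μ₀ = _
      congr 2; omega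
    · rw [if_neg (by omega), show μ₁ = τ * μ₀ by rw [hτ, mul_assoc, s0, mul_one], ← _root_.zpow_neg,
        mul_assoc (τ ^ (i / 2)), mul_assoc τ, hflip, neg_neg]
      show τ ^ i * μ₀ = _
      rw [← mul_assoc, ← mul_assoc, ← zpow_add_one, ← _root_.zpow_add]
      congr 2; omega
  have hshift : ∀ i k : ℤ, (τ ^ k) (a i) = a (i + 2 * k) := by
    intro i k
    show (τ ^ k * τ ^ (i / 2)) _ = (τ ^ ((i + 2 * k) / 2)) _
    rw [← _root_.zpow_add, show (i + 2 * k) / 2 = k + i / 2 by omega, show (i + 2 * k) % 2 = i % 2 by omega]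
  have hμ0 : ∀ j, μ₀ (a j) = a (-j) := by
    intro j
    show (μ₀ * τ ^ (j / 2)) _ = (τ ^ ((-j) / 2)) _
    rw [hflip]
    show (τ ^ (-(j / 2))) (μ₀ _) = _
    rcases Int.emod_two_eq_zero_or_one j with h | h
    · rw [if_pos h, if_pos (by omega), fix_axis h₀, show -j / 2 = -(j / 2) by omega]
    · rw [if_neg (by omega), if_neg (by omega), show -j / 2 = -(j / 2) + -1 by omega, _root_.zpow_add,
        zpow_neg_one, hτi]
      show _ = (τ ^ (-(j / 2))) (μ₀ (μ₁ a₁))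
      rw [fix_axis h₁]
  let A : Orb mul B :=
    { amb := hV
      a := a
      μ := μ
      pair := fun i => by
        rw [hμ]
        have := haut (i / 2)
        by_cases h : i % 2 = 0
        · show IsMajoranaPair mul B _ ((τ ^ (i / 2)) _)
          rw [if_pos h, if_pos h]; exact pair_conj this.1 this.2 h₀
        · show IsMajoranaPair mul B _ ((τ ^ (i / 2)) _)
          rw [if_neg h, if_neg h]; exact pair_conj this.1 this.2 h₁
      norm := fun i => by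
        show B ((τ ^ (i / 2)) _) ((τ ^ (i / 2)) _) = 1
        rw [(haut _).2]
        split_ifs <;> assumption
      refl := fun i j => by
        show (τ ^ i) (μ₀ (a j)) = a (2 * i - j)
        rw [hμ0, hshift]; congr 1; ring }
  have key : ∀ {i j : ℤ}, A.a i = A.a j → τ ^ (i - j) = 1 := by
    intro i j h
    have : μ i = μ j := by
      have h2 := A.pair j
      rw [← h] at h2
      exact miyamoto_ext (A.pair i) h2
    rw [_root_.zpow_sub, mul_right_cancel this, mul_inv_cancel]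
  have fin : ∀ n : ℕ, τ ^ (n : ℤ) = 1 → (μ₀ * μ₁) ^ n = 1 := fun n h => by
    rw [← hτi, inv_pow, ← zpow_natCast, h, inv_one]
  rcases A.periodic with h | h | h | h | h
  · exact ⟨2, by norm_num, by norm_num, fin 2 (key h)⟩
  · exact ⟨3, by norm_num, by norm_num, fin 3 (key h)⟩
  · exact ⟨4, by norm_num, by norm_num, fin 4 (key h)⟩
  · exact ⟨5, by norm_num, by norm_num, fin 5 (key h)⟩
  · exact ⟨6, by norm_num, le_rfl, fin 6 (key h)⟩

end Cfsg.Agent.Lib.Axial.Sakuma
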